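import Mathlib

/-!
Jordan's theorem: a primitive group containing a cycle of prime length fixing at least three points
contains the alternating group.
-/

namespace CfsgLib.Jordan

open MulAction Equiv Equiv.Perm

set_option maxHeartbeats 1000000

variable {α : Type*} [Fintype α] [DecidableEq α]

theorem exists_map_of_isMultiplyPretransitive {G : Subgroup (Perm α)} (Γ : Finset α)
    (hG : IsMultiplyPretransitive G α Γ.card) (e : Perm α) :
    ∃ h ∈ G, ∀ x ∈ Γ, h x = e x := by
  let f : Fin Γ.card ↪ α := Γ.equivFin.symm.toEmbedding.trans (Function.Embedding.subtype _)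
  obtain ⟨g, hg⟩ := hG.exists_smul_eq f (f.trans e.toEmbedding)
  refine ⟨g, g.2, fun x hx => ?_⟩
  have := congrArg (fun y : Fin Γ.card ↪ α => y (Γ.equivFin ⟨x, hx⟩)) hg
  simpa [f, Subgroup.smul_def] using this

theorem not_sq_dvd_factorial {p : ℕ} (hp : p.Prime) : ¬ p ^ 2 ∣ p.factorial := by
  intro h
  obtain ⟨q, rfl⟩ : ∃ q, p = q + 1 := ⟨p - 1, by have := hp.pos; omega⟩
  rw [Nat.factorial_succ, pow_two] at h
  have := (hp.dvd_factorial).mp (Nat.dvd_of_mul_dvd_mul_left hp.pos h)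
  omega

theorem alternatingGroup_le_of_prime_cycle (G : Subgroup (Perm α)) (hG : IsPreprimitive G α)
    {p : ℕ} (hp : p.Prime) (hpn : p + 3 ≤ Fintype.card α) {g : Perm α} (hgc : g.IsCycle)
    (hgp : g.support.card = p) (hg : g ∈ G) : alternatingGroup α ≤ G := by
  classical
  haveI : Fact p.Prime := ⟨hp⟩
  set Γ : Finset α := g.supportᶜ with hΓ
  have hΓcard : Γ.card = Fintype.card α - p := by rw [hΓ, Finset.card_compl, hgp]
  obtain ⟨m, hm⟩ : ∃ m, Γ.card = m + 1 := ⟨Γ.card - 1, by omega⟩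
  have hcompl : ((Γ : Finset α) : Set α) = (g.support : Set α)ᶜ := by simp [hΓ]
  haveI hprim : IsPreprimitive (fixingSubgroup G ((g.support : Set α)ᶜ))
      (SubMulAction.ofFixingSubgroup G ((g.support : Set α)ᶜ)) := by
    haveI := isPretransitive_of_isCycle_mem hgc hg
    apply IsPreprimitive.of_prime_card
    convert hp
    rw [Nat.card_eq_fintype_card, Fintype.card_subtype, ← hgp]
    congr 1
    ext z
    simp [SubMulAction.mem_ofFixingSubgroup_iff]
  have hmult : IsMultiplyPreprimitive G α (m + 2) := by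
    refine hG.isMultiplyPreprimitive (s := ((g.support : Set α)ᶜ)) ?_ ?_ hprim
    · rw [← hcompl, Set.ncard_coe_finset, hm]
    · rw [Nat.card_eq_fintype_card]
      have := hp.two_le
      omega
  have htrans : IsMultiplyPretransitive G α Γ.card := by
    haveI := hmult.isMultiplyPretransitive (M := G) (α := α) (n := m + 2)
    exact isMultiplyPretransitive_of_le (n := m + 2) (by omega)
      (by rw [Nat.card_eq_fintype_card]; have := hp.two_le; omega)
  let H : Subgroup (Perm α) := G ⊓ fixingSubgroup (Perm α) (Γ : Set α)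
  have hmemH : ∀ x, x ∈ H ↔ x ∈ G ∧ ∀ y ∈ Γ, x y = y := fun x => by
    simp [H, mem_fixingSubgroup_iff]
  have hgH : g ∈ H := (hmemH g).mpr ⟨hg, fun y hy => by simpa [hΓ] using hy⟩
  have hHdvd : Nat.card H ∣ p.factorial := by
    have hpres : ∀ x : H, ∀ y, y ∈ g.support ↔ (x : Perm α) y ∈ g.support := by
      intro x y
      have hx := ((hmemH _).mp x.2).2
      constructor
      · intro hy
        by_contra hc
        have h1 := (x : Perm α).injective (hx _ (by simpa [hΓ] using hc))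
        rw [h1] at hc
        exact hc hy
      · intro hy
        by_contra hc
        rw [hx y (by simpa [hΓ] using hc)] at hy
        exact hc hy
    let φ : H →* Perm {y // y ∈ g.support} :=
      { toFun := fun x => (x : Perm α).subtypePerm (fun y => (hpres x y).symm)
        map_one' := by ext y; rfl
        map_mul' := fun x y => by ext z; rfl }
    have hφ : Function.Injective φ := by
      intro x y hxy
      refine Subtype.ext (Equiv.ext fun z => ?_)
      by_cases hz : z ∈ g.support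
      · exact congrArg Subtype.val (Equiv.ext_iff.mp hxy ⟨z, hz⟩)
      · rw [((hmemH _).mp x.2).2 z (by simpa [hΓ] using hz),
          ((hmemH _).mp y.2).2 z (by simpa [hΓ] using hz)]
    have := Subgroup.card_dvd_of_injective φ hφ
    rwa [Nat.card_perm, Nat.card_eq_finsetCard, hgp] at this
  have hgord : orderOf g = p := by rw [hgc.orderOf, hgp]
  have hfac : (Nat.card H).factorization p ≤ 1 := by
    by_contra hlt
    exact not_sq_dvd_factorial hp ((((hp.pow_dvd_iff_le_factorization Nat.card_pos.ne').mpr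
      (by omega : 2 ≤ (Nat.card H).factorization p))).trans hHdvd)
  have hsyl : ∀ x : H, orderOf x = p → ∃ P : Sylow p H, (P : Subgroup H) = Subgroup.zpowers x := by
    intro x hx
    obtain ⟨P, hP⟩ := (IsPGroup.of_card (p := p) (G := Subgroup.zpowers x) (n := 1)
      (by rw [Nat.card_zpowers, hx, pow_one])).exists_le_sylow
    refine ⟨P, (Subgroup.eq_of_le_of_card_ge hP ?_).symm⟩
    rw [P.card_eq_multiplicity, Nat.card_zpowers, hx]
    exact le_of_le_of_eq (Nat.pow_le_pow_right hp.pos hfac) (pow_one p)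
  have hswap : ∀ u ∈ Γ, ∀ v ∈ Γ, ∃ a ∈ G, (∃ i : ℤ, a * g * a⁻¹ = g ^ i) ∧
      ∀ x ∈ Γ, a x = Equiv.swap u v x := by
    intro u hu v hv
    obtain ⟨h, hh, hmap⟩ := exists_map_of_isMultiplyPretransitive Γ htrans (Equiv.swap u v)
    have hclosed : ∀ x ∈ Γ, Equiv.swap u v x ∈ Γ := fun x hx => by
      rw [Equiv.swap_apply_def]; split_ifs <;> assumption
    have hconjH : h * g * h⁻¹ ∈ H := by
      refine (hmemH _).mpr ⟨G.mul_mem (G.mul_mem hh hg) (G.inv_mem hh), fun y hy => ?_⟩
      have h1 : h⁻¹ y = Equiv.swap u v y := by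
        rw [Perm.inv_eq_iff_eq, hmap _ (hclosed y hy), Equiv.swap_apply_self]
      have h2 : g (Equiv.swap u v y) = Equiv.swap u v y := by
        have := hclosed y hy
        simpa [hΓ] using this
      rw [Perm.mul_apply, Perm.mul_apply, h1, h2, hmap _ (hclosed y hy), Equiv.swap_apply_self]
    obtain ⟨P, hP⟩ := hsyl ⟨g, hgH⟩ (by rw [← Subgroup.orderOf_coe]; exact hgord)
    obtain ⟨Q, hQ⟩ := hsyl ⟨h * g * h⁻¹, hconjH⟩ (by
      rw [← Subgroup.orderOf_coe]
      show orderOf (h * g * h⁻¹) = p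
      rw [show h * g * h⁻¹ = MulAut.conj h g from rfl, MulEquiv.orderOf_eq, hgord])
    obtain ⟨y, hy⟩ := MulAction.exists_smul_eq H Q P
    have hmem : y * ⟨h * g * h⁻¹, hconjH⟩ * y⁻¹ ∈ (P : Subgroup H) := by
      rw [← hy, Sylow.coe_subgroup_smul, Subgroup.mem_pointwise_smul_iff_inv_smul_mem, hQ]
      simp [mul_assoc]
    rw [hP] at hmem
    obtain ⟨i, hi⟩ := hmem
    have hi' := congrArg (Subtype.val : H → Perm α) hi
    simp only [Subgroup.coe_zpow, Subgroup.coe_mul, Subgroup.coe_inv] at hi'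
    refine ⟨(y : Perm α) * h, G.mul_mem ((hmemH _).mp y.2).1 hh, ⟨i, by rw [hi']; group⟩, fun x hx => ?_⟩
    rw [Perm.mul_apply, hmap x hx]
    exact ((hmemH _).mp y.2).2 _ (hclosed x hx)
  obtain ⟨u, v, w, hu, hv, hw, huv, huw, hvw⟩ := Finset.two_lt_card_iff.mp (show 2 < Γ.card by omega)
  obtain ⟨a, haG, ⟨i, hai⟩, ha⟩ := hswap u hu v hv
  obtain ⟨b, hbG, ⟨j, hbj⟩, hb⟩ := hswap v hv w hw
  have e1 : (a * b) * g * (a * b)⁻¹ = (b * a) * g * (b * a)⁻¹ := by
    calc (a * b) * g * (a * b)⁻¹ = a * (b * g * b⁻¹) * a⁻¹ := by group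
      _ = (a * g * a⁻¹) ^ j := by rw [hbj, ← conj_zpow]
      _ = (b * g * b⁻¹) ^ i := by rw [hai, hbj, ← zpow_mul, ← zpow_mul, mul_comm]
      _ = b * (a * g * a⁻¹) * b⁻¹ := by rw [hai, ← conj_zpow]
      _ = (b * a) * g * (b * a)⁻¹ := by group
  obtain ⟨x, hx⟩ : ∃ x, x = (b * a)⁻¹ * (a * b) := ⟨_, rfl⟩
  have hxg : x * g = g * x := by
    calc x * g = (b * a)⁻¹ * ((a * b) * g * (a * b)⁻¹) * (a * b) := by rw [hx]; group
      _ = g * x := by rw [e1, hx]; group
  have hxG : x ∈ G := hx ▸ G.mul_mem (G.inv_mem (G.mul_mem hbG haG)) (G.mul_mem haG hbG)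
  have hinv : ∀ (c : Perm α) (s t : α), (∀ y ∈ Γ, c y = Equiv.swap s t y) → s ∈ Γ → t ∈ Γ →
      ∀ y ∈ Γ, c⁻¹ y = Equiv.swap s t y := by
    intro c s t hc hs ht y hy
    have hcl : Equiv.swap s t y ∈ Γ := by rw [Equiv.swap_apply_def]; split_ifs <;> assumption
    rw [Perm.inv_eq_iff_eq, hc _ hcl, Equiv.swap_apply_self]
  have hval : ∀ y ∈ Γ, x y = (Equiv.swap u v * Equiv.swap v w * Equiv.swap u v * Equiv.swap v w) y := by
    intro y hy
    have c1 : ∀ z ∈ Γ, Equiv.swap u v z ∈ Γ := fun z hz => by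
      rw [Equiv.swap_apply_def]; split_ifs <;> assumption
    have c2 : ∀ z ∈ Γ, Equiv.swap v w z ∈ Γ := fun z hz => by
      rw [Equiv.swap_apply_def]; split_ifs <;> assumption
    rw [hx, mul_inv_rev]
    simp only [Perm.mul_apply]
    rw [hb y hy, ha _ (c2 y hy), hinv b v w hb hv hw _ (c1 _ (c2 y hy)),
      hinv a u v ha hu hv _ (c2 _ (c1 _ (c2 y hy)))]
  obtain ⟨δ, hδ⟩ : g.support.Nonempty := Finset.card_pos.mp (by rw [hgp]; exact hp.pos)
  have hxδ : x δ ∈ g.support := by
    rw [Perm.mem_support] at hδ ⊢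
    intro h
    apply hδ
    apply x.injective
    rw [← Perm.mul_apply, hxg, Perm.mul_apply, h]
  obtain ⟨k, hk⟩ := hgc.sameCycle (Perm.mem_support.mp hδ) (Perm.mem_support.mp hxδ)
  obtain ⟨y, hy⟩ : ∃ y, y = (g ^ k)⁻¹ * x := ⟨_, rfl⟩
  have hyG : y ∈ G := hy ▸ G.mul_mem (G.inv_mem (G.zpow_mem hg k)) hxG
  have hyg : Commute y g := by
    rw [hy]
    exact Commute.mul_left (Commute.inv_left (Commute.zpow_left (Commute.refl g) k)) hxg
  have hyδ : y δ = δ := by
    rw [hy, Perm.mul_apply, Perm.inv_eq_iff_eq, hk]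
  have hysupp : ∀ z ∈ g.support, y z = z := by
    intro z hz
    obtain ⟨l, rfl⟩ := hgc.sameCycle (Perm.mem_support.mp hδ) (Perm.mem_support.mp hz)
    rw [← Perm.mul_apply, (hyg.zpow_right l).eq, Perm.mul_apply, hyδ]
  have hyΓ : ∀ z ∈ Γ, y z = x z := by
    intro z hz
    have hxz : g (x z) = x z := by
      have : g z = z := by simpa [hΓ] using hz
      rw [← Perm.mul_apply, ← hxg, Perm.mul_apply, this]
    rw [hy, Perm.mul_apply, Perm.inv_eq_iff_eq]
    exact (Perm.zpow_apply_eq_self_of_apply_eq_self hxz k).symm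
  have hy3 : y = Equiv.swap u v * Equiv.swap v w * Equiv.swap u v * Equiv.swap v w := by
    refine Equiv.ext fun z => ?_
    by_cases hz : z ∈ g.support
    · have hzne : ∀ t ∈ Γ, z ≠ t := fun t ht h => by simp [hΓ, ← h] at ht; exact (Perm.mem_support.mp hz) ht
      rw [hysupp z hz]
      simp [Perm.mul_apply, Equiv.swap_apply_of_ne_of_ne (hzne u hu) (hzne v hv),
        Equiv.swap_apply_of_ne_of_ne (hzne v hv) (hzne w hw)]
    · rw [hyΓ z (by simpa [hΓ] using hz), hval z (by simpa [hΓ] using hz)]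
  have h3 : (Equiv.swap u v * Equiv.swap v w * Equiv.swap u v * Equiv.swap v w) =
      Equiv.swap v w * Equiv.swap v u := by
    refine Equiv.ext fun z => ?_
    simp only [Perm.mul_apply, Equiv.swap_apply_def]
    grind
  refine alternatingGroup_le_of_isPreprimitive_of_isThreeCycle_mem hG (g := y) ?_ hyG
  rw [hy3, h3]
  exact Perm.isThreeCycle_swap_mul_swap_same hvw huv.symm huw.symm

end CfsgLib.Jordan
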